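import Groth.Agent.H10.GenusZero.Place
import Groth.Agent.Lib.EssDimM0.Curve
import Groth.Agent.Lib.CurveFF.Consts
import Groth.Agent.Lib.CurveFF.Genus
import Groth.Agent.Lib.CurveFF.Basic
import Groth.Agent.H2.Rigid.GeomIrred
import Groth.Agent.H34.ZarConn.Main
import Groth.Agent.S1544
import Groth.Prelude.Def_ModelsG

/-!
# A genus zero curve is a line after a separable extension of degree at most two
-/

set_option autoImplicit false
set_option linter.style.haveILetI false
noncomputable section

universe u

open CategoryTheory CategoryTheory.Limits AlgebraicGeometry TopologicalSpace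

namespace Groth.Agent.H10.GenusZero.Curve

open Groth.Agent.Lib

attribute [local instance] Curv2.stalkAlgebra Curv2.resAlgebra

variable {k : Type u} [Field k]

theorem isIso_app {C : Scheme.{u}} (f : C ⟶ Spec (CommRingCat.of k)) (h : IsIso f.appTop)
    (U : (Spec (CommRingCat.of k)).Opens) : IsIso (f.app U) := by
  by_cases hU : (U : Set (Spec (CommRingCat.of k))).Nonempty
  · obtain ⟨x, hx⟩ := hU
    obtain rfl : U = ⊤ := by
      haveI : Subsingleton (Spec (CommRingCat.of k)) := inferInstanceAs (Subsingleton (PrimeSpectrum k))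
      ext y
      exact ⟨fun _ => trivial, fun _ => Subsingleton.elim x y ▸ hx⟩
    exact h
  · obtain rfl : U = ⊥ := TopologicalSpace.Opens.ext (Set.not_nonempty_iff_eq_empty.1 hU)
    haveI : Subsingleton Γ(C, f ⁻¹ᵁ ⊥) := by
      rw [Scheme.Hom.preimage_bot]; infer_instance
    refine (ConcreteCategory.isIso_iff_bijective _).2 ⟨fun a b _ => ?_, fun a => ⟨0, Subsingleton.elim _ _⟩⟩
    exact Subsingleton.elim a b

theorem exists_line {C : Scheme.{u}} (f : C ⟶ Spec (CommRingCat.of k))
    (hC : Curve.IsSmoothProperCurve k C f) (hH0 : IsIso f.appTop) (hg : Models.curveGenus k C f = 0) :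
    ∃ (K' : Type u) (_ : Field K') (ψ : k →+* K'),
      Models.IsFiniteSeparable ψ ∧ Models.homDegree ψ ≤ 2 ∧
      ∃ e : (pullback f (Spec.map (CommRingCat.ofHom ψ))) ≅ CohB1.ProjSpace 1 K',
        e.hom ≫ CohB1.ProjSpace.toSpec 1 K' = (pullback.snd f (Spec.map (CommRingCat.ofHom ψ))) := by
  obtain ⟨hp, hsm, hint, hd⟩ := hC
  haveI := hint
  letI : C.Over (Spec (CommRingCat.of k)) := ⟨f⟩
  haveI : IsProper (C ↘ Spec (CommRingCat.of k)) := hp
  haveI : Smooth (C ↘ Spec (CommRingCat.of k)) := hsm
  haveI : GeometricallyConnected (C ↘ Spec (CommRingCat.of k)) :=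
    Groth.Agent.H34.ZarConn.geometricallyConnected (f := C ↘ Spec (CommRingCat.of k)) (isIso_app f hH0)
  haveI : GeometricallyIntegral (C ↘ Spec (CommRingCat.of k)) :=
    H2.Rigid.GeomIrred.geometricallyIntegral_of_smooth _
  haveI := GrpSch.geometricallyReduced_of_smooth_field (C ↘ Spec (CommRingCat.of k))
  haveI : Algebra.IsGeometricallyReduced k C.functionField := (Groth.Agent.S1544.result k C).1 inferInstance
  have h0 := CurveFF.finrank_h0_eq_one k C
  have h := CurveFF.curveHyp_of_smooth k hd
  have hK := CurveFF.isFunctionField (k := k) h h0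
  have hg' : Curv2.genus k C = 0 := hg
  have hgF : _root_.FunFld.genus k C.functionField = 0 := (CurveFF.genus_eq h h0).symm.trans hg'
  obtain ⟨P, hP2, hPsep⟩ := Place.exists_place hK hgF
  obtain ⟨x, rfl⟩ := CurveFF.placeOf_surjective h P
  haveI := h.dvr x.1 x.2
  let O := (CurveFF.placeOf k h x).O
  let g : C.presheaf.stalk x.1 →+* O :=
    (algebraMap (C.presheaf.stalk x.1) C.functionField).codRestrict O fun a =>
      (CurveFF.mem_O_placeOf h x).2 ⟨a, rfl⟩
  let e₀ : C.presheaf.stalk x.1 ≃+* O := RingEquiv.ofBijective g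
    ⟨fun a b hab => IsFractionRing.injective _ C.functionField (congrArg Subtype.val hab),
      fun z => by
        obtain ⟨a, ha⟩ := (CurveFF.mem_O_placeOf h x).1 z.2
        exact ⟨a, Subtype.ext ha⟩⟩
  let E : C.residueField x.1 ≃ₐ[k] IsLocalRing.ResidueField O :=
    { IsLocalRing.ResidueField.mapEquiv e₀ with
      commutes' := fun c => congrArg (IsLocalRing.residue O) (Subtype.ext (CurveFF.algebraMap_const x.1 c)) }
  have hdeg : Module.finrank k (C.residueField x.1) ≤ 2 := by
    rw [← CurveFF.deg_placeOf h x]; exact hP2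
  have hfin : Module.Finite k (C.residueField x.1) := by
    refine Module.finite_of_finrank_pos ?_
    rw [← CurveFF.deg_placeOf h x]
    exact Groth.Agent.Lib.FunFld.Existence.deg_pos hK _
  haveI := hPsep
  have hsep : Algebra.IsSeparable k (C.residueField x.1) := AlgEquiv.Algebra.isSeparable E.symm
  let K' : Type u := C.residueField x.1
  let ψ : k →+* K' := algebraMap k (C.residueField x.1)
  have halg : ψ.toAlgebra = (Curv2.resAlgebra k C x.1 : Algebra k K') := Algebra.algebra_ext _ _ fun _ => rfl
  refine ⟨K', inferInstance, ψ, ?_, ?_, ?_⟩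
  · rw [Models.IsFiniteSeparable, halg]
    exact ⟨hfin, hsep⟩
  · rw [Models.homDegree, halg]
    exact hdeg
  -- the rational point
  let t : Spec (CommRingCat.of K') ⟶ Spec (CommRingCat.of k) := Spec.map (CommRingCat.ofHom ψ)
  have hpt : C.fromSpecResidueField x.1 ≫ f = t := by
    rw [Scheme.fromSpecResidueField, Category.assoc]
    erw [CurveFF.fromSpecStalk_over (k := k) x.1, ← Spec.map_comp]
    rfl
  letI : (pullback f t).Over (Spec (CommRingCat.of K')) := ⟨pullback.snd f t⟩
  have hbc : IsPullback (pullback.fst f t) ((pullback f t) ↘ Spec (CommRingCat.of K'))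
      (C ↘ Spec (CommRingCat.of k)) (Spec.map (CommRingCat.ofHom (algebraMap k K'))) :=
    IsPullback.of_hasPullback f t
  haveI := Curves.BaseChange.isIntegral hbc
  haveI := Curves.BaseChange.isProper hbc
  haveI : Smooth ((pullback f t) ↘ Spec (CommRingCat.of K')) := MorphismProperty.of_isPullback hbc inferInstance
  haveI : GeometricallyIrreducible ((pullback f t) ↘ Spec (CommRingCat.of K')) :=
    MorphismProperty.of_isPullback hbc inferInstance
  have hd' : topologicalKrullDim ↥(pullback f t) = 1 := by
    rw [Curves.BaseChange.topologicalKrullDim_eq hbc]; exact hd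
  have hg1 : Curv2.genus K' (pullback f t) = 0 := by
    rw [Curves.BaseChange.genus_eq hbc]; exact hg'
  let s : Spec (CommRingCat.of K') ⟶ pullback f t :=
    pullback.lift (C.fromSpecResidueField x.1) (𝟙 _) (by rw [Category.id_comp]; exact hpt)
  have hs : s ≫ ((pullback f t) ↘ Spec (CommRingCat.of K')) = 𝟙 _ := pullback.lift_snd _ _ _
  have hcx := Curves.RationalPoint.isClosed_pt (k := K') s hs
  haveI := (CurveFF.curveHyp_of_smooth K' hd').dvr _ hcx
  obtain ⟨M, hM, hdegM⟩ := Curves.DegreeOne.exists_deg_of_point (k := K') hd' hcx inferInstance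
  rw [Curves.PointIdeal.hdim_quot_point, Curves.RationalPoint.finrank_residueField s hs] at hdegM
  exact Groth.Agent.S6544.result K' (pullback f t) hd' hg1 M hM ⟨0, by rw [hdegM]; norm_num⟩

end Groth.Agent.H10.GenusZero.Curve
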