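import Groth.Agent.Lib.EssDimM0.ConicField
import Groth.Agent.Lib.FunFld.SmallGenus
import Groth.Agent.Lib.FunFld.Weil
import Mathlib.RingTheory.Nilpotent.GeometricallyReduced
import Mathlib.FieldTheory.SeparableDegree
import Mathlib.FieldTheory.IsAlgClosed.AlgebraicClosure
import Mathlib.RingTheory.Flat.Basic
import Mathlib.Tactic.LinearCombination

/-!
# A genus zero function field has a separable place of degree at most two
-/

set_option autoImplicit false
noncomputable section

namespace Groth.Agent.H10.GenusZero.Place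

open Groth.Agent.Lib.FunFld Groth.Agent.Lib.FunFld.Degree Groth.Agent.Lib.FunFld.Bound
open Groth.Agent.Lib.FunFld.Place Groth.Agent.Lib.FunFld.Riemann Groth.Agent.Lib.FunFld.Existence
open Polynomial WithZero

universe u
variable {k : Type u} {K : Type u} [Field k] [Field K] [Algebra k K]

local notation "Pl" => _root_.FunFld.Place k K
local notation "Dv" => _root_.FunFld.Divisor k K

/-- In odd characteristic every extension of degree at most two is separable. -/
theorem isSeparable_of_finrank_le_two (h2 : (2 : k) ≠ 0) {L : Type u} [Field L] [Algebra k L]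
    (hpos : 0 < Module.finrank k L) (hle : Module.finrank k L ≤ 2) : Algebra.IsSeparable k L := by
  haveI := FiniteDimensional.of_finrank_pos hpos
  refine ⟨fun x => ?_⟩
  have hx := Algebra.IsIntegral.isIntegral (R := k) x
  have hn := minpoly.natDegree_le (A := k) x
  have hpos' := minpoly.natDegree_pos hx
  refine (separable_iff_derivative_ne_zero (minpoly.irreducible hx)).2 fun h => ?_
  have hc := congrArg (fun p => Polynomial.coeff p ((minpoly k x).natDegree - 1)) h
  simp only [coeff_derivative, coeff_zero] at hc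
  rw [show (minpoly k x).natDegree - 1 + 1 = (minpoly k x).natDegree by omega,
    (minpoly.monic hx).coeff_natDegree, one_mul] at hc
  rcases (show (minpoly k x).natDegree = 1 ∨ (minpoly k x).natDegree = 2 by omega) with h' | h' <;>
    rw [h'] at hc
  · simp at hc
  · norm_num at hc
    exact h2 hc

theorem exists_mem_support (hK : _root_.FunFld.IsFunctionField k K) {D : Dv} (h0 : 0 ≤ D) (hd : D.deg = 2) :
    ∃ P : Pl, 1 ≤ D P ∧ (P.deg : ℤ) ≤ 2 := by
  have hne : D ≠ 0 := fun h => by rw [h] at hd; simp [_root_.FunFld.Divisor.deg] at hd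
  obtain ⟨P, hP⟩ := Finsupp.ne_iff.mp hne
  have h1 := Finsupp.le_def.mp h0 P
  simp only [Finsupp.coe_zero, Pi.zero_apply] at hP h1
  refine ⟨P, by omega, ?_⟩
  have hle : Finsupp.single P (1 : ℤ) ≤ D := Finsupp.le_def.mpr fun Q => by
    rcases eq_or_ne Q P with rfl | hQ
    · rw [Finsupp.single_eq_same]; omega
    · rw [Finsupp.single_eq_of_ne hQ]; exact Finsupp.le_def.mp h0 Q
  have := deg_mono hle
  rw [deg_single, hd] at this
  omega

/-- A separable place on a line cutting the conic in a separable quadratic form. -/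
theorem exists_place_line (hK : _root_.FunFld.IsFunctionField k K) (hg : _root_.FunFld.genus k K = 0)
    (h2 : (2 : k) = 0) {E : Dv} (hd : E.deg = 2) {vi vj vl : K} (hli : LinearIndependent k ![vi, vj, vl])
    (hi : vi ∈ _root_.FunFld.L E) (hj : vj ∈ _root_.FunFld.L E) (hl : vl ∈ _root_.FunFld.L E)
    {ci cj cl cij cil cjl : k} (hij : cij ≠ 0)
    (hrel : ci • (vi * vi) + cj • (vj * vj) + cl • (vl * vl) + cij • (vi * vj) + cil • (vi * vl) +
      cjl • (vj * vl) = 0) :
    ∃ P : Pl, P.deg ≤ 2 ∧ Algebra.IsSeparable k (IsLocalRing.ResidueField P.O) := by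
  have hl0 : vl ≠ 0 := hli.ne_zero 2
  obtain ⟨D, hD0, hDd, hDL⟩ : ∃ D : Dv, 0 ≤ D ∧ D.deg = 2 ∧
      ∀ x, x ∈ _root_.FunFld.L E → x / vl ∈ _root_.FunFld.L D := by
    refine ⟨_root_.FunFld.div k vl + E, ((mem_L_iff_div hK).mp hl).resolve_left hl0,
      by rw [deg_add, deg_div hK, zero_add, hd], fun x hx => ?_⟩
    rcases eq_or_ne x 0 with rfl | hx0
    · simp
    refine (mem_L_iff_div hK).mpr (Or.inr ?_)
    have h := ((mem_L_iff_div hK).mp hx).resolve_left hx0
    rw [div_eq_mul_inv, div_mul hK hx0 (inv_ne_zero hl0), div_inv hK]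
    calc (0 : Dv) ≤ _root_.FunFld.div k x + E := h
      _ = _ := by abel
  obtain ⟨P, hP1, hP2⟩ := exists_mem_support hK hD0 hDd
  set wi := vi / vl
  set wj := vj / vl
  have hwi := hDL vi hi
  have hwj := hDL vj hj
  have h1 : (1 : K) ∈ _root_.FunFld.L D := by
    have := hDL vl hl; rwa [div_self hl0] at this
  -- a section space one place smaller is too small
  have hsmall : ∀ x, x ∈ _root_.FunFld.L D → P.1 x < exp (D P) →
      x ∈ _root_.FunFld.L (D - Finsupp.single P (1 : ℤ)) := by
    intro x hx hlt Q
    rw [Finsupp.sub_apply]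
    rcases eq_or_ne Q P with rfl | hQ
    · rw [Finsupp.single_eq_same]
      exact (WithZero.lt_mul_exp_iff_le exp_ne_zero).1 (by rwa [← WithZero.exp_add, sub_add_cancel])
    · rw [Finsupp.single_eq_of_ne hQ, sub_zero]; exact hx Q
  haveI := finiteDimensional_L hK (D - Finsupp.single P (1 : ℤ))
  have hell : (_root_.FunFld.ell (D - Finsupp.single P (1 : ℤ)) : ℤ) + P.deg = 3 := by
    have h := Weil.ell_eq_of_deg_ge hK (D := D - Finsupp.single P (1 : ℤ))
      (by rw [hg, deg_sub, deg_single, hDd]; omega)
    rw [hg, deg_sub, deg_single, hDd] at h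
    omega
  have hdegpos := deg_pos hK P
  have hw : LinearIndependent k ![wi, wj, 1] := by
    have h := hli.map' (LinearMap.mulRight k vl⁻¹) (LinearMap.ker_eq_bot.2 fun a b hab =>
      mul_right_cancel₀ (inv_ne_zero hl0) hab)
    have hfun : (⇑(LinearMap.mulRight k vl⁻¹) ∘ ![vi, vj, vl]) = ![wi, wj, 1] := by
      funext a
      fin_cases a <;> simp [wi, wj, div_eq_mul_inv, hl0]
    rwa [hfun] at h
  have htop : P.1 wi = exp (D P) ∨ P.1 wj = exp (D P) := by
    by_contra hcon
    rw [not_or] at hcon
    have h1P : P.1 (1 : K) < exp (D P) := by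
      rw [map_one, ← WithZero.exp_zero, WithZero.exp_lt_exp]; omega
    let y : Fin 3 → _root_.FunFld.L (D - Finsupp.single P (1 : ℤ)) :=
      ![⟨wi, hsmall _ hwi (lt_of_le_of_ne (hwi P) hcon.1)⟩,
        ⟨wj, hsmall _ hwj (lt_of_le_of_ne (hwj P) hcon.2)⟩, ⟨1, hsmall _ h1 h1P⟩]
    have hy : LinearIndependent k y := LinearIndependent.of_comp (_root_.FunFld.L _).subtype (by
      convert hw using 1
      funext a; fin_cases a <;> rfl)
    have := hy.fintype_card_le_finrank
    rw [Fintype.card_fin] at this
    change 3 ≤ _root_.FunFld.ell _ at this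
    omega
  suffices key : ∀ (a b : k) (p q r : K), P.1 q = exp (D P) → p ∈ _root_.FunFld.L D → q ∈ _root_.FunFld.L D →
      LinearIndependent k ![p, q, 1] →
      r = p / q → (∃ e : K, algebraMap k K a * r ^ 2 + algebraMap k K cij * r + algebraMap k K b + e = 0 ∧
        P.1 e < 1) →
      ∃ P : Pl, P.deg ≤ 2 ∧ Algebra.IsSeparable k (IsLocalRing.ResidueField P.O) by
    simp only [Algebra.smul_def] at hrel
    have hrel' : algebraMap k K ci * (wi * wi) + algebraMap k K cj * (wj * wj) + algebraMap k K cl +
        algebraMap k K cij * (wi * wj) + algebraMap k K cil * wi + algebraMap k K cjl * wj = 0 := by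
      simp only [wi, wj]; field_simp; linear_combination hrel
    have hexp : ∀ x : K, x ∈ _root_.FunFld.L D → ∀ q : K, P.1 q = exp (D P) → P.1 (x / q) ≤ 1 := by
      intro x hx q hq
      rw [map_div₀, hq, div_le_one₀ (WithZero.exp_pos)]
      exact hx P
    have herr : ∀ q : K, P.1 q = exp (D P) → ∀ p : K, p ∈ _root_.FunFld.L D → ∀ a b c : k,
        P.1 ((algebraMap k K a * q⁻¹ + algebraMap k K b * (p / q) + algebraMap k K c) * q⁻¹) < 1 := by
      intro q hq p hp a b c
      have hs : P.1 q⁻¹ < 1 := by
        rw [map_inv₀, hq, ← WithZero.exp_neg, ← WithZero.exp_zero, WithZero.exp_lt_exp]; omega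
      rw [map_mul]
      refine lt_of_le_of_lt (mul_le_of_le_one_left' ?_) hs
      refine (P.1.map_add _ _).trans (max_le ((P.1.map_add _ _).trans (max_le ?_ ?_)) (P.2.1 c))
      · rw [map_mul]; exact mul_le_one' (P.2.1 a) hs.le
      · rw [map_mul]; exact mul_le_one' (P.2.1 b) (hexp p hp q hq)
    rcases htop with h | h
    · refine key cj ci wj wi (wj / wi) h hwj hwi ?_ rfl ⟨_, ?_, herr wi h wj hwj cl cjl cil⟩
      · have := hw.comp ![1, 0, 2] (by decide)
        convert this using 1
        funext a; fin_cases a <;> rfl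
      · have hne : wi ≠ 0 := fun h0 => by rw [h0, map_zero] at h; exact exp_ne_zero h.symm
        field_simp
        linear_combination hrel'
    · refine key ci cj wi wj (wi / wj) h hwi hwj hw rfl ⟨_, ?_, herr wj h wi hwi cl cil cjl⟩
      have hne : wj ≠ 0 := fun h0 => by rw [h0, map_zero] at h; exact exp_ne_zero h.symm
      field_simp
      linear_combination hrel'
  intro a b p q r hq hp hqL hlin hr ⟨e, he, he1⟩
  have hr1 : P.1 r ≤ 1 := by
    rw [hr, map_div₀, hq, div_le_one₀ (WithZero.exp_pos)]; exact hp P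
  let ρ : IsLocalRing.ResidueField P.O := IsLocalRing.residue P.O ⟨r, hr1⟩
  let f : k[X] := C a * X ^ 2 + C cij * X + C b
  have hf : aeval ρ f = 0 := by
    have hz : IsLocalRing.residue P.O (⟨e, he1.le⟩ : P.O) = 0 := (res_eq_zero_iff P _).2 he1
    have heq : algebraMap k P.O a * ⟨r, hr1⟩ ^ 2 + algebraMap k P.O cij * ⟨r, hr1⟩ + algebraMap k P.O b +
        ⟨e, he1.le⟩ = 0 := Subtype.ext he
    have := congrArg (IsLocalRing.residue P.O) heq
    simp only [map_add, map_mul, map_pow, hz, add_zero, map_zero, ← algebraMap_residue] at this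
    simpa [f] using this
  have hsf : f.Separable := by
    have hder : derivative f = C cij := by
      simp only [f, derivative_add, derivative_C_mul, derivative_X_pow, derivative_X, derivative_C]
      simp [h2]
    rw [separable_def, hder]
    exact ⟨0, C cij⁻¹, by rw [zero_mul, zero_add, ← C_mul, inv_mul_cancel₀ hij, C_1]⟩
  refine ⟨P, by omega, ?_⟩
  haveI : FiniteDimensional k (IsLocalRing.ResidueField P.O) := FiniteDimensional.of_finrank_pos hdegpos
  have hρ : IsSeparable k ρ := hsf.of_dvd (minpoly.dvd k ρ hf)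
  haveI := (IntermediateField.isSeparable_adjoin_simple_iff_isSeparable k _).2 hρ
  suffices htop' : IntermediateField.adjoin k ({ρ} : Set (IsLocalRing.ResidueField P.O)) = ⊤ from
    AlgEquiv.Algebra.isSeparable ((IntermediateField.equivOfEq htop').trans IntermediateField.topEquiv)
  by_contra hne
  haveI hfd : FiniteDimensional k (IntermediateField.adjoin k ({ρ} : Set (IsLocalRing.ResidueField P.O))) :=
    IntermediateField.adjoin.finiteDimensional hρ.isIntegral
  have hfpos : 0 < Module.finrank k (IntermediateField.adjoin k ({ρ} : Set (IsLocalRing.ResidueField P.O))) :=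
    Module.finrank_pos
  have hlt : Module.finrank k (IntermediateField.adjoin k ({ρ} : Set (IsLocalRing.ResidueField P.O))) <
      P.deg := by
    haveI : @Module.Finite k (IsLocalRing.ResidueField P.O) CommSemiring.toSemiring Semiring.toAddCommMonoid
        Algebra.toModule := Module.finite_of_finrank_pos hdegpos
    refine lt_of_le_of_ne (Submodule.finrank_le (IntermediateField.adjoin k ({ρ} : Set (IsLocalRing.ResidueField P.O))).toSubalgebra.toSubmodule) fun h => hne ?_
    exact IntermediateField.eq_of_le_of_finrank_eq le_top (by rw [h]; exact IntermediateField.finrank_top'.symm)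
  have hρk : ρ ∈ (⊥ : IntermediateField k (IsLocalRing.ResidueField P.O)) := by
    have h1 : Module.finrank k (IntermediateField.adjoin k ({ρ} : Set (IsLocalRing.ResidueField P.O))) = 1 := by
      have : 0 < Module.finrank k (IntermediateField.adjoin k ({ρ} : Set (IsLocalRing.ResidueField P.O))) :=
        Module.finrank_pos
      omega
    rw [IntermediateField.finrank_adjoin_simple_eq_one_iff] at h1
    exact h1
  obtain ⟨c, hc⟩ := IntermediateField.mem_bot.1 hρk
  have hlt1 : P.1 (r - algebraMap k K c) < 1 :=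
    (res_eq_zero_iff P (⟨r, hr1⟩ - algebraMap k P.O c)).1 (by
      rw [map_sub, ← algebraMap_residue, hc, sub_self])
  have hq0 : q ≠ 0 := fun h0 => by rw [h0, map_zero] at hq; exact exp_ne_zero hq.symm
  have hzlt : P.1 (p - c • q) < exp (D P) := by
    have : p - c • q = (r - algebraMap k K c) * q := by
      rw [hr, sub_mul, div_mul_cancel₀ _ hq0, Algebra.smul_def]
    rw [this, map_mul, hq]
    calc P.1 (r - algebraMap k K c) * exp (D P) < 1 * exp (D P) := mul_lt_mul_of_pos_right hlt1 WithZero.exp_pos
      _ = exp (D P) := one_mul _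
  have h1P : P.1 (1 : K) < exp (D P) := by
    rw [map_one, ← WithZero.exp_zero, WithZero.exp_lt_exp]; omega
  let y : Fin 2 → _root_.FunFld.L (D - Finsupp.single P (1 : ℤ)) :=
    ![⟨p - c • q, hsmall _ (sub_mem hp (Submodule.smul_mem _ _ hqL)) hzlt⟩, ⟨1, hsmall _ h1 h1P⟩]
  have hy : LinearIndependent k y := by
    rw [Fintype.linearIndependent_iff]
    intro g hg0
    have h0 := congrArg Subtype.val hg0
    simp only [Fin.sum_univ_two, y, Submodule.coe_add, Submodule.coe_smul, Matrix.cons_val_zero,
      Matrix.cons_val_one, Submodule.coe_zero] at h0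
    have h := Fintype.linearIndependent_iff.1 hlin ![g 0, -(g 0 * c), g 1] (by
      rw [Fin.sum_univ_three]
      simp only [Matrix.cons_val_zero, Matrix.cons_val_one, Matrix.cons_val_two, Matrix.tail_cons,
        Matrix.head_cons]
      rw [← h0, smul_sub, neg_smul, mul_smul]
      abel)
    intro i
    fin_cases i
    · exact h 0
    · exact h 2
  have := hy.fintype_card_le_finrank
  rw [Fintype.card_fin] at this
  change 2 ≤ _root_.FunFld.ell _ at this
  have := hlt
  omega

open TensorProduct in
/-- Squares of independent elements are independent in a geometrically reduced extension. -/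
theorem diag_eq_zero [Algebra.IsGeometricallyReduced k K] (h2 : (2 : k) = 0) {v : Fin 3 → K}
    (hv : LinearIndependent k v) {c : Fin 3 → k} (h : ∑ i, c i • (v i * v i) = 0) : c = 0 := by
  classical
  let Ω := AlgebraicClosure k
  haveI : IsReduced (Ω ⊗[k] K) := inferInstance
  choose s hs using fun i => IsAlgClosed.exists_eq_mul_self (algebraMap k Ω (c i))
  let z : Ω ⊗[k] K := ∑ i, s i ⊗ₜ[k] v i
  have h2T : (2 : Ω ⊗[k] K) = 0 := by
    rw [← map_ofNat (algebraMap k (Ω ⊗[k] K)) 2, h2, map_zero]
  have hz : z * z = 0 := by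
    have hsq : ∀ a b : Ω ⊗[k] K, (a + b) * (a + b) = a * a + b * b := fun a b => by
      linear_combination (a * b) * h2T
    simp only [z, Fin.sum_univ_three, hsq, Algebra.TensorProduct.tmul_mul_tmul, ← hs]
    rw [Algebra.algebraMap_eq_smul_one, Algebra.algebraMap_eq_smul_one, Algebra.algebraMap_eq_smul_one,
      smul_tmul, smul_tmul, smul_tmul, ← tmul_add, ← tmul_add]
    rw [← Fin.sum_univ_three (fun i => c i • (v i * v i)), h, tmul_zero]
  have hz0 : z = 0 := IsReduced.eq_zero z ⟨2, by rw [pow_two, hz]⟩
  let B := (Finsupp.linearCombination k v)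
  have hB : Function.Injective B := hv
  have hinj := Module.Flat.lTensor_preserves_injective_linearMap (M := Ω) B hB
  have hpre : (∑ i, s i ⊗ₜ[k] Finsupp.single i (1 : k)) = 0 := hinj (by
    rw [map_sum, map_zero, ← hz0]
    simp [z, B])
  funext i
  have hi := congrArg (fun t => TensorProduct.rid k Ω ((Finsupp.lapply i).lTensor Ω t)) hpre
  simp [Finsupp.single_apply] at hi
  have hci := hs i
  rw [hi, mul_zero] at hci
  simpa using hci

/-- A genus zero function field has a place of degree at most two with separable residue field. -/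
theorem exists_place [Algebra.IsGeometricallyReduced k K] (hK : _root_.FunFld.IsFunctionField k K)
    (hg : _root_.FunFld.genus k K = 0) :
    ∃ P : Pl, P.deg ≤ 2 ∧ Algebra.IsSeparable k (IsLocalRing.ResidueField P.O) := by
  obtain ⟨E, v, c, hd, hv, hmem, hc, hrel⟩ := Groth.Agent.Lib.EssDimM0.ConicField.exists_relation hK hg
  by_cases h2 : (2 : k) = 0
  swap
  · obtain ⟨F, x, hF, -, -, hFd⟩ := SmallGenus.exists_nonneg hK (E := E) (by
      rw [← Nat.cast_pos (α := ℤ), Weil.ell_eq_of_deg_ge hK (D := E) (by rw [hg, hd]; norm_num), hg, hd]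
      norm_num)
    obtain ⟨P, -, hP2⟩ := exists_mem_support hK hF (hFd.trans hd)
    exact ⟨P, by omega, isSeparable_of_finrank_le_two h2 (deg_pos hK P) (show P.deg ≤ 2 by omega)⟩
  simp only [Fin.sum_univ_six, Groth.Agent.Lib.EssDimM0.ConicField.mons] at hrel
  simp at hrel
  by_cases h3 : c 3 = 0
  swap
  · refine exists_place_line hK hg h2 hd ?_ (hmem 0) (hmem 1) (hmem 2) h3
      (ci := c 0) (cj := c 1) (cl := c 2) (cil := c 4) (cjl := c 5) hrel
    convert hv using 1
    funext a; fin_cases a <;> rfl
  by_cases h4 : c 4 = 0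
  swap
  · refine exists_place_line hK hg h2 hd ?_ (hmem 0) (hmem 2) (hmem 1) h4
      (ci := c 0) (cj := c 2) (cl := c 1) (cil := c 3) (cjl := c 5) ?_
    · have := hv.comp ![0, 2, 1] (by decide)
      convert this using 1
      funext a; fin_cases a <;> rfl
    · rw [← hrel, mul_comm (v 2) (v 1)]; abel
  by_cases h5 : c 5 = 0
  swap
  · refine exists_place_line hK hg h2 hd ?_ (hmem 1) (hmem 2) (hmem 0) h5
      (ci := c 1) (cj := c 2) (cl := c 0) (cil := c 3) (cjl := c 4) ?_
    · have := hv.comp ![1, 2, 0] (by decide)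
      convert this using 1
      funext a; fin_cases a <;> rfl
    · rw [← hrel, mul_comm (v 1) (v 0), mul_comm (v 2) (v 0)]; abel
  rw [h3, h4, h5, zero_smul, zero_smul, zero_smul, add_zero, add_zero, add_zero] at hrel
  have h0 := diag_eq_zero h2 hv (c := ![c 0, c 1, c 2]) (by simpa [Fin.sum_univ_three] using hrel)
  exact absurd (_root_.funext fun p : Fin 6 => by
    fin_cases p
    · exact congrFun h0 0
    · exact congrFun h0 1
    · exact congrFun h0 2
    all_goals assumption) hc

end Groth.Agent.H10.GenusZero.Place
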